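import Groth.Agent.Lib.Fibration13.Basic
import Groth.Agent.Lib.RelMin32.Birat
import Groth.Agent.Lib.RootExt25.Point
import Groth.Prelude.Def_Coh

/-!
# Functions on a modification of a normal affine scheme
-/

set_option autoImplicit false
set_option backward.isDefEq.respectTransparency false
set_option backward.isDefEq.respectTransparency.types false

universe u

open CategoryTheory CategoryTheory.Limits AlgebraicGeometry

noncomputable section

namespace Groth.Agent.RatPow18

variable {A : Type u} [CommRing A] [IsDomain A] {X : Scheme.{u}} [IsIntegral X]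
  (f : X ⟶ Spec (CommRingCat.of A)) [IsProper f]
  (hbir : ∃ U : (Spec (CommRingCat.of A)).Opens, (U : Set (Spec (CommRingCat.of A))).Nonempty ∧ IsIso (f ∣_ U))

include hbir

theorem bijective_toGlobal [IsIntegrallyClosed A] : Function.Bijective (Coh.toGlobal f) := by
  obtain ⟨U, hU, hiso⟩ := hbir
  haveI := hiso
  obtain ⟨hgen, hb⟩ := RelMin.birational_of_restrict f hU
  haveI := hb
  have h : f.base (genericPoint X) ⤳ genericPoint (Spec (CommRingCat.of A)) := specializes_of_eq hgen
  have h' : genericPoint (Spec (CommRingCat.of A)) ⤳ f.base (genericPoint X) := specializes_of_eq hgen.symm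
  haveI : IsIso ((Spec (CommRingCat.of A)).presheaf.stalkSpecializes h) :=
    ⟨(Spec (CommRingCat.of A)).presheaf.stalkSpecializes h', by
      rw [TopCat.Presheaf.stalkSpecializes_comp, TopCat.Presheaf.stalkSpecializes_refl], by
      rw [TopCat.Presheaf.stalkSpecializes_comp, TopCat.Presheaf.stalkSpecializes_refl]⟩
  have hbij : Function.Bijective (CohIII.stalkToFunctionField f (genericPoint (Spec (CommRingCat.of A))) h) :=
    (ConcreteCategory.bijective_of_isIso (f.stalkMap (genericPoint X))).comp
      (ConcreteCategory.bijective_of_isIso ((Spec (CommRingCat.of A)).presheaf.stalkSpecializes h))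
  exact (Fibration13.bijective_app_of_birational f (RootExt25.isNormalScheme_spec A) h hbij ⊤).comp
    (ConcreteCategory.bijective_of_isIso (Scheme.ΓSpecIso (CommRingCat.of A)).inv)

theorem exists_closedPoint [IsLocalRing A] : ∃ p : X, f p = IsLocalRing.closedPoint A := by
  obtain ⟨U, hU, hiso⟩ := hbir
  haveI := hiso
  obtain ⟨hgen, -⟩ := RelMin.birational_of_restrict f hU
  have hmem : genericPoint (Spec (CommRingCat.of A)) ∈ Set.range f.base := ⟨_, hgen⟩
  exact ((genericPoint_specializes _).mem_closed f.isClosedMap.isClosed_range hmem :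
    IsLocalRing.closedPoint A ∈ Set.range f.base)

end Groth.Agent.RatPow18
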