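import Groth.Agent.Lib.FMHyp13.IdealMul
import Groth.Agent.Lib.BlowUp3.SpecIdeal
import Groth.Agent.Lib.RelAmple18.Generation

/-!
# Powers of an ideal of the base, pulled back
-/

set_option autoImplicit false
set_option linter.style.haveILetI false
set_option linter.unusedSectionVars false
set_option backward.isDefEq.respectTransparency false
set_option backward.isDefEq.respectTransparency.types false

universe u

open CategoryTheory CategoryTheory.Limits AlgebraicGeometry TopologicalSpace Opposite

noncomputable section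

namespace Groth.Agent.RatPow18

variable {A : Type u} [CommRing A] {X : Scheme.{u}} (f : X ⟶ Spec (CommRingCat.of A))

/-- Elements of the base as functions on an open. -/
def ρU (U : X.Opens) : A →+* Γ(X, U) :=
  (X.presheaf.map (homOfLE (le_top : U ≤ ⊤)).op).hom.comp (Coh.toGlobal f)

theorem ρU_res {U V : X.Opens} (h : V ≤ U) (a : A) :
    X.presheaf.map (homOfLE h).op (ρU f U a) = ρU f V a :=
  M1.rs_rs h _

/-- The pulled back powers. -/
abbrev powIdeal (I : Ideal A) (n : ℕ) : X.IdealSheafData :=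
  ((Curv2.idealSheaf A I).comap f) ^ n

theorem powIdeal_ideal (I : Ideal A) (n : ℕ) (U : X.affineOpens) :
    (powIdeal f I n).ideal U = (I ^ n).map (ρU f U.1) := by
  rw [Scheme.IdealSheafData.ideal_pow, Pi.pow_apply,
    EffCartier.comap_ideal _ f ⟨⊤, isAffineOpen_top _⟩ U le_top, BlowUp3.idealSheaf_ideal_top, Ideal.map_map,
    ← Ideal.map_pow]
  rfl

theorem ρU_mem {I : Ideal A} {n : ℕ} {a : A} (ha : a ∈ I ^ n) (U : X.affineOpens) :
    ρU f U.1 a ∈ (powIdeal f I n).ideal U := by
  rw [powIdeal_ideal]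
  exact Ideal.mem_map_of_mem _ ha

/-- An element of the power gives a global section of the ideal module. -/
theorem exists_section (I : Ideal A) (n : ℕ) {a : A} (ha : a ∈ I ^ n) :
    ∃ t : Γ(ClSub.idealMod (powIdeal f I n), ⊤), M2.idealIncl (powIdeal f I n) t = Coh.toGlobal f a := by
  let J := powIdeal f I n
  refine M2.exists_idealIncl_eq J _ ?_
  refine TopCat.Sheaf.eq_of_locally_eq' J.subscheme.sheaf (fun U : X.affineOpens => J.subschemeι ⁻¹ᵁ U.1) _
    (fun U => homOfLE le_top) (fun p _ => ?_) _ _ fun U => ?_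
  · obtain ⟨W, hW, hp, -⟩ := exists_isAffineOpen_mem_and_subset (x := J.subschemeι p) (U := (⊤ : X.Opens)) trivial
    exact Opens.mem_iSup.2 ⟨⟨W, hW⟩, hp⟩
  · rw [map_zero]
    refine (ConcreteCategory.congr_hom (J.subschemeι.naturality (homOfLE (le_top : U.1 ≤ ⊤)).op) _).symm.trans ?_
    have h : ρU f U.1 a ∈ J.ideal U := ρU_mem f ha U
    rw [← J.ker_subschemeι, Scheme.Hom.ker_apply] at h
    exact RingHom.mem_ker.1 h

/-- The ideal module of a pulled back power is globally generated. -/
theorem isGloballyGenerated_idealMod (I : Ideal A) (n : ℕ) :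
    Curv2.IsGloballyGenerated (ClSub.idealMod (powIdeal f I n)) := by
  let J := powIdeal f I n
  refine RA.isGloballyGenerated_of_span _ fun x => top_le_iff.1 fun z _ => ?_
  let L := CurveCoh17.stalkLin (ClSub.idealModι J) x
  refine (Submodule.apply_mem_span_image_iff_mem_span (FMHyp13.injective_idealModι J x)).1 ?_
  obtain ⟨U, hU, hx, -⟩ := exists_isAffineOpen_mem_and_subset (x := x) (U := (⊤ : X.Opens)) trivial
  have hz : L z ∈ InterLen.idealSt J x • (⊤ : Submodule (X.presheaf.stalk x)
      ((Coh.structureModule X).presheaf.stalk x)) :=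
    (FMHyp13.range_idealModι J x).le ⟨z, rfl⟩
  rw [InterLen.idealSt_eq_map _ x ⟨U, hU⟩ hx, powIdeal_ideal, Ideal.map_map, Ideal.map, Submodule.span_smul_eq] at hz
  revert hz
  suffices h : _ ≤ Submodule.span (X.presheaf.stalk x) (L '' Set.range fun t : Γ(ClSub.idealMod J, ⊤) =>
      Amp.gm (ClSub.idealMod J) x (U := ⊤) trivial t) from fun hz => h hz
  rw [Submodule.set_smul_le_iff]
  rintro _ m ⟨a, ha, rfl⟩ -
  obtain ⟨t, ht⟩ := exists_section f I n ha
  obtain ⟨c, rfl⟩ := (Cyc26.structureModule_stalk_bijective (Z := X) x).2 m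
  have e : L (Amp.gm (ClSub.idealMod J) x (U := ⊤) trivial t) =
      X.presheaf.germ U x hx (ρU f U a) • Cyc26.oneStalk x := by
    refine (M1.germ_naturality (ClSub.idealModι J) ⊤ x trivial t).trans ?_
    refine (FMHyp13.germ_structure (U := ⊤) (x := x) trivial _).trans ?_
    refine congrArg (· • Cyc26.oneStalk x) ?_
    rw [show (ClSub.idealModι J).app ⊤ t = Coh.toGlobal f a from ht]
    exact (X.presheaf.germ_res_apply (homOfLE (le_top : U ≤ ⊤)) x hx _).symm
  have hmem := Submodule.smul_mem (Submodule.span (X.presheaf.stalk x) (L '' Set.range fun t :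
      Γ(ClSub.idealMod J, ⊤) => Amp.gm (ClSub.idealMod J) x (U := ⊤) trivial t)) c
    (Submodule.subset_span ⟨_, ⟨t, rfl⟩, rfl⟩)
  rw [e, smul_comm] at hmem
  exact hmem

end Groth.Agent.RatPow18
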