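import Mathlib

/-!
# Relations among the generators of a principal ideal
-/

set_option autoImplicit false

universe u

namespace Groth.Agent.RatPow18

/-- The relation between `x p` and `x q`, scaled. -/
def relVec {R : Type u} [CommRing R] {r : ℕ} {σ : Type u} (x : Fin r → R) (s : σ → R) (ρ : Fin r × Fin r × σ)
    (i : Fin r) : R :=
  s ρ.2.2 * ((if i = ρ.1 then x ρ.2.1 else 0) - if i = ρ.2.1 then x ρ.1 else 0)

theorem map_relVec {R S : Type u} [CommRing R] [CommRing S] (φ : R →+* S) {r : ℕ} {σ : Type u} (x : Fin r → R)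
    (s : σ → R) (ρ : Fin r × Fin r × σ) (i : Fin r) :
    φ (relVec x s ρ i) = relVec (φ ∘ x) (φ ∘ s) ρ i := by
  simp [relVec, apply_ite φ]

theorem sum_mul_relVec {R : Type u} [CommRing R] {r : ℕ} {σ : Type u} (x : Fin r → R) (s : σ → R)
    (ρ : Fin r × Fin r × σ) : ∑ i, x i * relVec x s ρ i = 0 := by
  simp [relVec, mul_sub, Finset.sum_sub_distrib]
  ring

theorem relVec_mem {R : Type u} [CommRing R] {r : ℕ} {σ : Type u} {I : Ideal R} (x : Fin r → R) (s : σ → R)
    (hx : ∀ i, x i ∈ I) {k : ℕ} (hs : ∀ j, s j ∈ I ^ k) (ρ : Fin r × Fin r × σ) (i : Fin r) :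
    relVec x s ρ i ∈ I ^ (k + 1) := by
  rw [pow_succ]
  refine Ideal.mul_mem_mul (hs _) (sub_mem ?_ ?_) <;> split_ifs <;> simp [hx]

/-- A combination by members of an ideal. -/
theorem exists_sum_of_mem_span_mul {R : Type u} [CommRing R] {r : ℕ} (x : Fin r → R) (K : Ideal R) {z : R}
    (hz : z ∈ Ideal.span (Set.range x) * K) : ∃ τ : Fin r → R, (∀ i, τ i ∈ K) ∧ ∑ i, x i * τ i = z := by
  induction hz using Submodule.mul_induction_on' with
  | mem_mul_mem a ha b hb =>
    obtain ⟨c, rfl⟩ := Ideal.mem_span_range_iff_exists_fun.1 ha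
    exact ⟨fun i => c i * b, fun i => K.mul_mem_left _ hb, by
      rw [Finset.sum_mul]; exact Finset.sum_congr rfl fun i _ => by ring⟩
  | add a _ b _ ha hb =>
    obtain ⟨τ, hτ, rfl⟩ := ha
    obtain ⟨τ', hτ', rfl⟩ := hb
    exact ⟨τ + τ', fun i => add_mem (hτ i) (hτ' i), by simp [mul_add, Finset.sum_add_distrib]⟩

/-- In a power of a principal ideal, the relations are the scaled relations of the generators. -/
theorem exists_relation {R : Type u} [CommRing R] {r : ℕ} (x : Fin r → R) {g : R} (hg : g ∈ nonZeroDivisors R)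
    (hx : Ideal.span (Set.range x) = Ideal.span {g}) (k : ℕ) {σ : Type u} [Fintype σ] (s : σ → R)
    (hs : Ideal.span (Set.range s) = Ideal.span (Set.range x) ^ k) (δ : Fin r → R)
    (hδ : ∀ i, δ i ∈ Ideal.span (Set.range x) ^ (k + 1)) (h0 : ∑ i, x i * δ i = 0) :
    ∃ y : Fin r × Fin r × σ → R, ∀ i, δ i = ∑ ρ, y ρ * relVec x s ρ i := by
  rw [hx, Ideal.span_singleton_pow] at hs hδ
  choose v hv using fun i => Ideal.mem_span_singleton'.1 (hδ i)
  choose u hu using fun i => Ideal.mem_span_singleton'.1 (hx.le (Ideal.subset_span ⟨i, rfl⟩))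
  obtain ⟨a, ha⟩ := Ideal.mem_span_range_iff_exists_fun.1 (hx.ge (Ideal.mem_span_singleton_self g))
  obtain ⟨c, hc⟩ := Ideal.mem_span_range_iff_exists_fun.1 (hs.ge (Ideal.mem_span_singleton_self (g ^ k)))
  have huv : ∑ p, u p * v p = 0 := by
    refine (mul_left_mem_nonZeroDivisors_eq_zero_iff (pow_mem hg (k + 2))).1 ?_
    rw [Finset.mul_sum]
    refine Eq.trans (Finset.sum_congr rfl fun i _ => ?_) h0
    rw [← hv i, ← hu i]
    ring
  refine ⟨fun ρ => c ρ.2.2 * a ρ.2.1 * v ρ.1, fun i => ?_⟩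
  have key : ∀ p q : Fin r, ∑ j, c j * a q * v p * relVec x s (p, q, j) i =
      g ^ k * (a q * v p * ((if i = p then x q else 0) - if i = q then x p else 0)) := fun p q => by
    rw [← hc, Finset.sum_mul]
    exact Finset.sum_congr rfl fun j _ => by simp only [relVec]; ring
  rw [Fintype.sum_prod_type]
  simp only [Fintype.sum_prod_type, key]
  simp only [mul_sub, mul_ite, mul_zero, Finset.sum_sub_distrib]
  rw [Finset.sum_comm]
  simp only [Finset.sum_ite_eq, Finset.mem_univ, if_true]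
  have h1 : ∑ q, g ^ k * (a q * v i * x q) = δ i := by
    rw [← hv i]
    calc ∑ q, g ^ k * (a q * v i * x q) = g ^ k * v i * ∑ q, a q * x q := by
          rw [Finset.mul_sum]; exact Finset.sum_congr rfl fun q _ => by ring
      _ = v i * g ^ (k + 1) := by rw [ha]; ring
  have h2 : ∑ p, g ^ k * (a i * v p * x p) = 0 := by
    calc ∑ p, g ^ k * (a i * v p * x p) = g ^ (k + 1) * a i * ∑ p, u p * v p := by
          rw [Finset.mul_sum]; exact Finset.sum_congr rfl fun p _ => by rw [← hu p]; ring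
      _ = 0 := by rw [huv, mul_zero]
  rw [h1, h2, sub_zero]

end Groth.Agent.RatPow18
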