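import Groth.Agent.Lib.RatPow18.Ideal
import Groth.Agent.Lib.RatPow18.Koszul
import Groth.Agent.Lib.FibH1_18.Degree0
import Groth.Agent.Lib.FibH1_18.Global

/-!
# Global functions in the powers of an invertible ideal of the base
-/

set_option autoImplicit false
set_option linter.style.haveILetI false
set_option linter.unusedSectionVars false
set_option maxHeartbeats 1000000
set_option backward.isDefEq.respectTransparency false
set_option backward.isDefEq.respectTransparency.types false

universe u

open CategoryTheory CategoryTheory.Limits AlgebraicGeometry TopologicalSpace Opposite TensorProduct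

noncomputable section

namespace Groth.Agent.RatPow18

open Groth.Agent.CohFound Groth.Agent.CBC10 Groth.Agent.FibH1_18

attribute [local instance] secA

section Cover

variable {A : Type u} [CommRing A] {X : Scheme.{u}} (f : X ⟶ Spec (CommRingCat.of A))

/-- A cover on which the pulled back ideal is principal. -/
theorem exists_principal_cov [IsProper f] [IsIntegral X] (I : Ideal A)
    (hE : BlowUp.IsEffCartierIdeal ((Curv2.idealSheaf A I).comap f)) :
    ∃ c : Cov X, ∀ (n : ℕ) (a : Fin (n + 1) → c.ι),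
      ∃ g : Γ(X, tupOpen (X := sp X) c.U a), g ∈ nonZeroDivisors Γ(X, tupOpen (X := sp X) c.U a) ∧
        I.map (ρU f (tupOpen (X := sp X) c.U a)) = Ideal.span {g} := by
  haveI : CompactSpace X := QuasiCompact.compactSpace_of_compactSpace f
  haveI : X.IsSeparated := ⟨by rw [← terminal.comp_from f]; infer_instance⟩
  choose U hxU g hg hI using hE
  obtain ⟨t, ht⟩ := isCompact_univ.elim_finite_subcover (fun x : X => ((U x).1 : Set X))
    (fun x => (U x).1.2) (fun x _ => Set.mem_iUnion.2 ⟨x, hxU x⟩)
  let V : (↑(↑t : Set X) : Type u) → X.Opens := fun i => (U i.1).1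
  have hV : ∀ i, IsAffineOpen (V i) := fun i => (U i.1).2
  refine ⟨{ ι := (↑(↑t : Set X) : Type u), U := V,
            cov := fun x _ => ?_, aff := isAffineOpen_tupOpen hV }, fun n a => ?_⟩
  · obtain ⟨i, hi, hxi⟩ := Set.mem_iUnion₂.1 (ht (Set.mem_univ x))
    exact Opens.mem_iSup.2 ⟨⟨i, hi⟩, hxi⟩
  · let W := tupOpen (X := sp X) V a
    have hle : W ≤ (U (a 0).1).1 := iInf_le (fun k => V (a k)) 0
    refine ⟨X.presheaf.map (homOfLE hle).op (g (a 0).1), ?_, ?_⟩
    · rcases isEmpty_or_nonempty W with he | hne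
      · haveI : Subsingleton Γ(X, W) := by
          have hbot : W = ⊥ := by
            ext x
            exact ⟨fun hx => (he.false ⟨x, hx⟩).elim, fun hx => hx.elim⟩
          exact CommRingCat.subsingleton_of_isTerminal (X.sheaf.isTerminalOfEqEmpty hbot)
        exact mem_nonZeroDivisors_iff_right.2 fun z _ => Subsingleton.elim _ _
      · haveI := hne
        haveI : Nonempty (U (a 0).1).1 := ⟨⟨hne.some.1, hle hne.some.2⟩⟩
        refine mem_nonZeroDivisors_of_ne_zero fun h0 => ?_
        refine nonZeroDivisors.ne_zero (hg (a 0).1) ?_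
        exact map_injective_of_isIntegral X (homOfLE hle) (h0.trans (map_zero _).symm)
    · have h := powIdeal_ideal f I 1 (U (a 0).1)
      rw [pow_one, powIdeal, pow_one] at h
      have h2 : I.map (ρU f (U (a 0).1).1) = Ideal.span {g (a 0).1} := h.symm.trans (hI (a 0).1)
      have h3 := congrArg (Ideal.map (X.presheaf.map (homOfLE hle).op).hom) h2
      rw [Ideal.map_map, Ideal.map_span, Set.image_singleton] at h3
      rw [← h3]
      congr 1
      ext z
      exact (ρU_res f hle z).symm

end Cover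

section Sections

variable {A : Type u} [CommRing A] [IsNoetherianRing A] {X : Scheme.{u}} (f : X ⟶ Spec (CommRingCat.of A))

/-- Membership in the powers on a cover. -/
abbrev InPow (c : Cov X) (I : Ideal A) (n : ℕ) (a : A) : Prop :=
  ∀ b : Fin 1 → c.ι, ρU f (tupOpen (X := sp X) c.U b) a ∈ (I ^ n).map (ρU f (tupOpen (X := sp X) c.U b))

/-- The induction step. -/
theorem mem_pow_step (c : Cov X) (I : Ideal A)
    (hc : ∀ (n : ℕ) (a : Fin (n + 1) → c.ι),
      ∃ g : Γ(X, tupOpen (X := sp X) c.U a), g ∈ nonZeroDivisors Γ(X, tupOpen (X := sp X) c.U a) ∧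
        I.map (ρU f (tupOpen (X := sp X) c.U a)) = Ideal.span {g})
    (hO : Subsingleton (Coh.HH X (Coh.structureModule X) 1))
    (hH2 : ∀ N : X.Modules, Coh.IsQCoh N → Subsingleton (Coh.HH X N 2))
    (htop : Function.Bijective (Coh.toGlobal f)) (k : ℕ)
    (ih : ∀ a : A, InPow f c I (k + 1) a → a ∈ I ^ (k + 1)) (a : A) (ha : InPow f c I (k + 2) a) :
    a ∈ I ^ (k + 2) := by
  classical
  letI : X.Over (Spec (CommRingCat.of A)) := ⟨f⟩
  let O := Coh.structureModule X
  have hF : Coh.IsQCoh O := M1.isQCoh_structureModule X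
  obtain ⟨r, x, hx⟩ := Submodule.fg_iff_exists_fin_generating_family.1 (IsNoetherian.noetherian I)
  obtain ⟨l, s, hs⟩ := Submodule.fg_iff_exists_fin_generating_family.1 (IsNoetherian.noetherian (I ^ k))
  let s' : ULift.{u} (Fin l) → A := fun j => s j.down
  have hs' : Ideal.span (Set.range s') = I ^ k := by
    rw [← hs]; congr 1; exact Equiv.ulift.surjective.range_comp s
  have hxI : ∀ i, x i ∈ I := fun i => hx.le (Submodule.subset_span ⟨i, rfl⟩)
  have hsI : ∀ j, s' j ∈ I ^ k := fun j => hs'.le (Ideal.subset_span ⟨j, rfl⟩)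
  have hspan : ∀ W : X.Opens, I.map (ρU f W) = Ideal.span (Set.range (ρU f W ∘ x)) := fun W => by
    rw [Set.range_comp, ← Ideal.map_span]; exact congrArg _ hx.symm
  -- the local expansions
  have hτ : ∀ b : Fin 1 → c.ι, ∃ τ : Fin r → Γ(X, tupOpen (X := sp X) c.U b),
      (∀ i, τ i ∈ (I ^ (k + 1)).map (ρU f _)) ∧ ∑ i, ρU f _ (x i) * τ i = ρU f _ a := fun b => by
    refine exists_sum_of_mem_span_mul (ρU f _ ∘ x) _ ?_
    rw [← hspan, ← Ideal.map_mul, ← pow_succ']
    exact ha b
  choose τ hτI hτa using hτ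
  let T : Fin r → C c.U O 0 := fun i b => τ b i
  have hsumT : ∑ i, x i • T i = glob c.U O (Coh.toGlobal f a) := by
    funext b
    rw [Finset.sum_apply]
    exact hτa b
  let δ : Fin r → C c.U O 1 := fun i => dL A c.U O 0 (T i)
  have hδ0 : ∑ i, x i • δ i = 0 := by
    have := congrArg (dL A c.U O 0) hsumT
    rw [map_sum, dL_glob] at this
    simpa only [map_smul] using this
  have hδI : ∀ (i : Fin r) (b : Fin 2 → c.ι), (δ i b : Γ(X, tupOpen (X := sp X) c.U b)) ∈
      (I ^ (k + 1)).map (ρU f (tupOpen (X := sp X) c.U b)) := fun i b => by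
    change dL A c.U O 0 (T i) b ∈ _
    rw [dL_apply]
    refine Submodule.sum_mem _ fun j _ => ?_
    refine zsmul_mem ?_ _
    have h1 := Ideal.mem_map_of_mem (X.presheaf.map (homOfLE (tupOpen_le (X := sp X) c.U b j)).op).hom
      (hτI (b ∘ j.succAbove) i)
    rw [Ideal.map_map] at h1
    have e : (X.presheaf.map (homOfLE (tupOpen_le (X := sp X) c.U b j)).op).hom.comp (ρU f _) =
        ρU f (tupOpen (X := sp X) c.U b) := RingHom.ext fun z => ρU_res f _ z
    rw [e] at h1
    exact h1
  -- the relations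
  let σ := Fin r × Fin r × ULift.{u} (Fin l)
  have hy : ∀ b : Fin 2 → c.ι, ∃ y : σ → Γ(X, tupOpen (X := sp X) c.U b),
      ∀ i, δ i b = ∑ ρ, y ρ * ρU f _ (relVec x s' ρ i) := fun b => by
    obtain ⟨g, hg, hIg⟩ := hc 1 b
    let φ := ρU f (tupOpen (X := sp X) c.U b)
    obtain ⟨y, hy⟩ := exists_relation (φ ∘ x) hg ((hspan _).symm.trans hIg) k (φ ∘ s')
      (by rw [← hspan, ← Ideal.map_pow, Set.range_comp, ← Ideal.map_span, hs'])
      (fun i => δ i b) (fun i => by rw [← hspan, ← Ideal.map_pow]; exact hδI i b)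
      (by have := congrFun hδ0 b; rw [Finset.sum_apply] at this; exact this)
    exact ⟨y, fun i => (hy i).trans (Finset.sum_congr rfl fun ρ _ => by rw [map_relVec])⟩
  choose y hy using hy
  let g : (σ → A) →ₗ[A] (Fin r → A) := Fintype.linearCombination A (fun ρ => relVec x s' ρ)
  have hgI : ∀ (w : σ → A) (i : Fin r), g w i ∈ I ^ (k + 1) := fun w i => by
    simp only [g, Fintype.linearCombination_apply, Finset.sum_apply, Pi.smul_apply, smul_eq_mul]
    exact Submodule.sum_mem _ fun ρ _ => Ideal.mul_mem_left _ _ (relVec_mem x s' hxI hsI ρ i)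
  have hxg : ∀ w : σ → A, ∑ i, x i * g w i = 0 := fun w => by
    simp only [g, Fintype.linearCombination_apply, Finset.sum_apply, Pi.smul_apply, smul_eq_mul, Finset.mul_sum]
    rw [Finset.sum_comm]
    refine Finset.sum_eq_zero fun ρ _ => ?_
    simp only [mul_left_comm (x _)]
    rw [← Finset.mul_sum, sum_mul_relVec, mul_zero]
  let e := fun n => TensorProduct.piScalarRight A A (C c.U O n) (Fin r)
  have he : ∀ (n : ℕ) (z : C c.U O n) (v : Fin r → A) (i : Fin r), e n (z ⊗ₜ v) i = v i • z := fun n z v i => by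
    simp [e, TensorProduct.piScalarRight_apply]
  have hnat : ∀ (z : CT A c.U O (Fin r → A) 0) (i : Fin r),
      e 1 (dT A c.U O (Fin r → A) 0 z) i = dL A c.U O 0 (e 0 z i) := fun z i => by
    induction z using TensorProduct.induction_on with
    | zero => simp only [map_zero, Pi.zero_apply]
    | add p q hp hq => simp only [map_add, Pi.add_apply, hp, hq]
    | tmul p v => rw [dT, LinearMap.rTensor_tmul, he, he, map_smul]
  let Tt : CT A c.U O (Fin r → A) 0 := (e 0).symm T
  let Y : CT A c.U O (σ → A) 1 := ∑ ρ, (fun b => y b ρ) ⊗ₜ[A] Pi.single ρ 1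
  have hgY : g.lTensor _ Y = dT A c.U O (Fin r → A) 0 Tt := by
    refine (e 1).injective (funext fun i => ?_)
    rw [hnat, LinearEquiv.apply_symm_apply]
    simp only [Y, map_sum, LinearMap.lTensor_tmul, Finset.sum_apply, he]
    funext b
    rw [Finset.sum_apply]
    refine (Finset.sum_congr rfl fun ρ _ => ?_).trans (hy b i).symm
    simp only [g, Fintype.linearCombination_apply_single, Pi.smul_apply, one_smul]
    exact mul_comm (ρU f _ (relVec x s' ρ i)) (y b ρ)
  obtain ⟨u, hu, hdu⟩ := exists_liftT c.cov c.aff hF hH2 g Y (by rw [lTensor_dT, hgY, dT_dT])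
  obtain ⟨w, hw⟩ := vanT_of_algebra c.cov c.aff hF hH2 (M := σ → A) A
    ((vanT_self_iff c.cov c.aff hF).2 hO) (Y - u) (by rw [map_sub, hdu, sub_self])
  let Z := Tt - g.lTensor _ w
  have hZ : dT A c.U O (Fin r → A) 0 Z = 0 := by
    rw [map_sub, ← lTensor_dT, hw, map_sub, hu, sub_zero, hgY, sub_self]
  have hcyc : ∀ i, dL A c.U O 0 (e 0 Z i) = 0 := fun i => by rw [← hnat, hZ, map_zero, Pi.zero_apply]
  choose σ' hσ' using fun i => exists_glob c.cov O (e 0 Z i) (hcyc i)
  choose t ht using fun i => htop.2 (σ' i : Γ(X, ⊤))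
  have hgl : ∀ i, glob c.U O (Coh.toGlobal f (t i)) = e 0 Z i := fun i => by rw [ht, hσ']
  have hgw : ∀ (w : CT A c.U O (σ → A) 0) (i : Fin r) (b : Fin 1 → c.ι),
      (e 0 (g.lTensor _ w) i b : Γ(X, tupOpen (X := sp X) c.U b)) ∈ (I ^ (k + 1)).map (ρU f _) := fun w i b => by
    induction w using TensorProduct.induction_on with
    | zero => simp only [map_zero, Pi.zero_apply]; exact zero_mem _
    | add p q hp hq => simp only [map_add, Pi.add_apply]; exact add_mem hp hq
    | tmul p v =>
      rw [LinearMap.lTensor_tmul, he]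
      let q : Γ(X, tupOpen (X := sp X) c.U b) := p b
      change ρU f (tupOpen (X := sp X) c.U b) (g v i) * q ∈ (I ^ (k + 1)).map (ρU f (tupOpen (X := sp X) c.U b))
      exact Ideal.mul_mem_right _ _ (Ideal.mem_map_of_mem _ (hgI v i))
  have hxw : ∀ w : CT A c.U O (σ → A) 0, ∑ i, x i • e 0 (g.lTensor _ w) i = 0 := fun w => by
    induction w using TensorProduct.induction_on with
    | zero => simp
    | add p q hp hq => simp only [map_add, Pi.add_apply, smul_add, Finset.sum_add_distrib, hp, hq, add_zero]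
    | tmul p v =>
      simp only [LinearMap.lTensor_tmul, he, smul_smul]
      rw [← Finset.sum_smul, hxg, zero_smul]
  have hZi : ∀ i, e 0 Z i = T i - e 0 (g.lTensor _ w) i := fun i => by
    simp only [Z, Tt, map_sub, Pi.sub_apply, LinearEquiv.apply_symm_apply]
  have htI : ∀ i, t i ∈ I ^ (k + 1) := fun i => ih _ fun b => by
    have h := congrFun ((hgl i).trans (hZi i)) b
    let q : Γ(X, tupOpen (X := sp X) c.U b) := e 0 (g.lTensor _ w) i b
    change ρU f _ (t i) = τ b i - q at h
    rw [h]
    exact sub_mem (hτI b i) (hgw w i b)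
  have key : glob c.U O (Coh.toGlobal f (∑ i, x i * t i)) = glob c.U O (Coh.toGlobal f a) := by
    rw [← hsumT]
    calc glob c.U O (Coh.toGlobal f (∑ i, x i * t i)) = ∑ i, x i • glob c.U O (Coh.toGlobal f (t i)) := by
          funext b
          rw [Finset.sum_apply]
          change ρU f (tupOpen (X := sp X) c.U b) (∑ i, x i * t i) = ∑ i, ρU f _ (x i) * ρU f _ (t i)
          simp only [map_sum, map_mul]
      _ = ∑ i, x i • e 0 Z i := Finset.sum_congr rfl fun i _ => by rw [hgl]
      _ = ∑ i, x i • T i := by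
          simp only [hZi, smul_sub, Finset.sum_sub_distrib, hxw, sub_zero]
  rw [← htop.1 (glob_injective c.cov O key), show k + 2 = (k + 1) + 1 from rfl, pow_succ']
  exact Submodule.sum_mem _ fun i _ => Ideal.mul_mem_mul (hxI i) (htI i)

/-- Functions in the powers on the cover lie in the powers. -/
theorem mem_pow_of_inPow [IsLocalRing A] (c : Cov X)
    (hc : ∀ (n : ℕ) (a : Fin (n + 1) → c.ι),
      ∃ g : Γ(X, tupOpen (X := sp X) c.U a), g ∈ nonZeroDivisors Γ(X, tupOpen (X := sp X) c.U a) ∧
        (IsLocalRing.maximalIdeal A).map (ρU f (tupOpen (X := sp X) c.U a)) = Ideal.span {g})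
    (hO : Subsingleton (Coh.HH X (Coh.structureModule X) 1))
    (hH2 : ∀ N : X.Modules, Coh.IsQCoh N → Subsingleton (Coh.HH X N 2))
    (htop : Function.Bijective (Coh.toGlobal f)) {p : X} (hp : f p = IsLocalRing.closedPoint A) (n : ℕ) :
    ∀ a : A, InPow f c (IsLocalRing.maximalIdeal A) n a → a ∈ IsLocalRing.maximalIdeal A ^ n := by
  induction n with
  | zero => intro a _; simp
  | succ n ih =>
    cases n with
    | succ k => exact mem_pow_step f c _ hc hO hH2 htop k ih
    | zero =>
      intro a ha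
      rw [zero_add, pow_one]
      by_contra hnot
      have hua : IsUnit a := IsLocalRing.notMem_maximalIdeal.1 hnot
      obtain ⟨b, hb⟩ := Opens.mem_iSup.1 (le_iSup_tup c.cov (show p ∈ (⊤ : X.Opens) from trivial))
      let W := tupOpen (X := sp X) c.U b
      let φ : A →+* X.presheaf.stalk p := (X.presheaf.germ W p hb).hom.comp (ρU f W)
      have hle : (IsLocalRing.maximalIdeal A).map φ ≤ IsLocalRing.maximalIdeal _ := by
        refine Ideal.map_le_iff_le_comap.2 fun z hz => ?_
        refine (IsLocalRing.mem_maximalIdeal _).2 fun hz' => ?_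
        have hm : p ∈ X.basicOpen (ρU f W z) := (X.mem_basicOpen _ p hb).2 hz'
        have hm' : p ∈ X.basicOpen (Coh.toGlobal f z) :=
          ((Scheme.basicOpen_res X (Coh.toGlobal f z) (homOfLE (le_top : W ≤ ⊤)).op).le hm).2
        rw [show Coh.toGlobal f z = f.app ⊤ ((Scheme.ΓSpecIso (CommRingCat.of A)).inv z) from rfl,
          ← Scheme.preimage_basicOpen, basicOpen_eq_of_affine'] at hm'
        have hm'' : z ∉ (f p).asIdeal := by
          have := hm'
          simp at this
          exact this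
        exact hm'' (by rw [hp]; exact hz)
      have h1 := ha b
      rw [zero_add, pow_one] at h1
      have h2 : φ a ∈ (IsLocalRing.maximalIdeal A).map φ := by
        rw [← Ideal.map_map]; exact Ideal.mem_map_of_mem _ h1
      exact (IsLocalRing.mem_maximalIdeal _).1 (hle h2) (hua.map φ)

end Sections

end Groth.Agent.RatPow18
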